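import Mathlib.CategoryTheory.Abelian.Indization
import Mathlib.CategoryTheory.Generator.Indization
import Mathlib.CategoryTheory.Abelian.Refinements
import Mathlib.CategoryTheory.Preadditive.AdditiveFunctor
import Mathlib.CategoryTheory.Limits.Preserves.Filtered
import Mathlib.CategoryTheory.Limits.Types.Filtered
import Mathlib.CategoryTheory.Subobject.ArtinianObject
import Mathlib.Algebra.Homology.ShortComplex.SnakeLemma
import Mathlib.Algebra.Module.NatInt

universe v u

open CategoryTheory Limits Opposite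

namespace Groth.Agent.IndCof45

variable {C : Type v} [SmallCategory C] [Abelian C]

local notation "yI" => (Ind.yoneda (C := C))

instance : Functor.Additive (Ind.yoneda (C := C)) :=
  have := preservesBinaryBiproducts_of_preservesBinaryProducts (Ind.yoneda (C := C))
  Functor.additive_of_preservesBinaryBiproducts _

/-- Being (isomorphic to) an object of `C`. -/
abbrev InC (X : Ind C) : Prop := (Ind.yoneda (C := C)).essImage X

lemma eq_zero_of_yoneda {A B : Ind C} (f : A ⟶ B)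
    (h : ∀ (X : C) (a : (yI).obj X ⟶ A), a ≫ f = 0) : f = 0 := by
  refine Ind.isSeparating_range_yoneda f 0 fun G hG a => ?_
  obtain ⟨X⟩ := hG
  simp [h X a]

/-- `Hom(yX, -)` is evaluation at `X`. -/
noncomputable def evalIso (X : C) :
    coyoneda.obj (op ((yI).obj X)) ≅ Ind.inclusion C ⋙ (evaluation _ _).obj (op X) :=
  NatIso.ofComponents
    (fun A => Equiv.toIso
      (((Ind.inclusion.fullyFaithful (C := C)).homEquiv).trans
        (((Ind.yonedaCompInclusion.app X).homCongr (Iso.refl _)).trans yonedaEquiv)))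
    (fun {A B} f => by
      ext a
      simp [yonedaEquiv, Functor.FullyFaithful.homEquiv])

instance (X : C) (I : Type v) [SmallCategory I] [IsFiltered I] :
    PreservesColimitsOfShape I (coyoneda.obj (op ((yI).obj X))) :=
  preservesColimitsOfShape_of_natIso (evalIso X).symm

lemma exists_refinement {Q' Q : Ind C} (q : Q' ⟶ Q) [Epi q] (X : C) (a : (yI).obj X ⟶ Q) :
    ∃ (X' : C) (π : X' ⟶ X) (_ : Epi π) (b : (yI).obj X' ⟶ Q'), (yI).map π ≫ a = b ≫ q := by
  let P := pullback a q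
  let f : P ⟶ (yI).obj X := pullback.fst a q
  have : Epi f := inferInstance
  let F := (Ind.presentation P).F
  let cP : Cocone (F ⋙ yI) := ⟨P, (colimit.cocone (F ⋙ yI)).ι ≫
    (Functor.const _).map (Ind.colimitPresentationCompYoneda P).hom⟩
  have hcP : IsColimit cP := IsColimit.ofIsoColimit (colimit.isColimit _)
    (Cocone.ext (Ind.colimitPresentationCompYoneda P) (fun _ => rfl))
  let g := fun i => (yI).preimage (cP.ι.app i ≫ f)
  have hg : ∀ i, (yI).map (g i) = cP.ι.app i ≫ f := fun i => Functor.map_preimage _ _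
  have hnat : ∀ {i j} (u : i ⟶ j), F.map u ≫ g j = g i := fun {i j} u => by
    apply (yI).map_injective
    rw [Functor.map_comp, hg, hg, ← Category.assoc]
    exact congr_arg (· ≫ f) (cP.w u)
  let H : _ ⥤ C :=
    { obj := fun i => cokernel (g i)
      map := fun {i j} u => cokernel.map (g i) (g j) (F.map u) (𝟙 X) (by simp [hnat u])
      map_id := fun i => by apply coequalizer.hom_ext; simp
      map_comp := fun u v => by apply coequalizer.hom_ext; simp }
  let e := fun i => (yI).map (cokernel.π (g i)) ≫ colimit.ι (H ⋙ yI) i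
  have he : ∀ i j, e i = e j := fun i j => by
    obtain ⟨k, u, v, -⟩ := IsFilteredOrEmpty.cocone_objs i j
    have step : ∀ {i k} (u : i ⟶ k), e i = e k := fun {i k} u => by
      show _ = (yI).map (cokernel.π (g k)) ≫ colimit.ι (H ⋙ yI) k
      have : cokernel.π (g i) ≫ H.map u = cokernel.π (g k) := by simp [H]
      rw [← this, Functor.map_comp, Category.assoc]
      exact congr_arg ((yI).map (cokernel.π (g i)) ≫ ·) (colimit.w (H ⋙ yI) u).symm
    rw [step u, step v]
  have i₀ := IsFiltered.nonempty (C := (Ind.presentation P).I).some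
  have h0 : e i₀ = 0 := by
    rw [← cancel_epi f, comp_zero]
    refine hcP.hom_ext fun i => ?_
    rw [comp_zero, ← Category.assoc, ← hg, he i₀ i]
    simp only [e, ← Category.assoc, ← Functor.map_comp]
    simp
  obtain ⟨j, u, huw⟩ := (Types.FilteredColimit.isColimit_eq_iff'
    (isColimitOfPreserves (coyoneda.obj (op ((yI).obj X))) (colimit.isColimit (H ⋙ yI)))
    ((yI).map (cokernel.π (g i₀))) (0 : (yI).obj X ⟶ (yI).obj (H.obj i₀))).1
      (h0.trans zero_comp.symm)
  have hπj : cokernel.π (g j) = 0 := by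
    apply (yI).map_injective
    rw [Functor.map_zero, show cokernel.π (g j) = cokernel.π (g i₀) ≫ H.map u by simp [H],
      Functor.map_comp]
    exact huw.trans (zero_comp (f := (yI).map (H.map u)))
  have : Epi (g j) := Abelian.epi_of_cokernel_π_eq_zero (g j) hπj
  refine ⟨F.obj j, g j, this, cP.ι.app j ≫ pullback.snd a q, ?_⟩
  rw [hg, Category.assoc, Category.assoc]
  exact congr_arg _ pullback.condition

lemma mono_of_yoneda {A B : Ind C} (f : A ⟶ B)
    (h : ∀ (X : C) (a : (yI).obj X ⟶ A), a ≫ f = 0 → a = 0) : Mono f :=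
  Preadditive.mono_of_cancel_zero _ fun {T} t ht => eq_zero_of_yoneda t fun X a =>
    h X (a ≫ t) (by rw [Category.assoc, ht, comp_zero])

lemma eq_zero_of_epi_map {A : Ind C} {X' X : C} (π : X' ⟶ X) [Epi π]
    (a : (yI).obj X ⟶ A) (h : (yI).map π ≫ a = 0) : a = 0 :=
  (cancel_epi ((yI).map π)).1 (h.trans comp_zero.symm)

lemma le_of_yoneda {A : Ind C} (S T : Subobject A)
    (h : ∀ (X : C) (a : (yI).obj X ⟶ A), a ≫ cokernel.π S.arrow = 0 → a ≫ cokernel.π T.arrow = 0) :
    S ≤ T := by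
  have h0 : S.arrow ≫ cokernel.π T.arrow = 0 := eq_zero_of_yoneda _ fun X a => by
    rw [← Category.assoc]; exact h X _ (by rw [Category.assoc, cokernel.condition, comp_zero])
  exact Subobject.le_of_comm (Abelian.monoLift T.arrow S.arrow h0) (Abelian.monoLift_comp _ _ _)

lemma exists_torsion (htor : ∀ X : C, ∃ n : ℕ, 0 < n ∧ n • 𝟙 X = 0) {A : Ind C} (X : C)
    (a : (yI).obj X ⟶ A) : ∃ M : ℕ, 0 < M ∧ M • a = 0 := by
  obtain ⟨M, hM, h⟩ := htor X
  refine ⟨M, hM, ?_⟩
  rw [show M • a = (M • 𝟙 ((yI).obj X)) ≫ a by rw [Preadditive.nsmul_comp, Category.id_comp],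
    ← (yI).map_id, ← Functor.map_nsmul, h, Functor.map_zero, zero_comp]

section closure

variable {X Y Z : Ind C}

lemma inC_of_iso (e : X ≅ Y) (h : InC X) : InC Y := (yI).essImage.prop_of_iso e h

lemma inC_kernel (f : X ⟶ Y) (hX : InC X) (hY : InC Y) : InC (kernel f) := by
  obtain ⟨X₀, ⟨eX⟩⟩ := hX
  obtain ⟨Y₀, ⟨eY⟩⟩ := hY
  exact ⟨kernel ((yI).preimage (eX.hom ≫ f ≫ eY.inv)), ⟨PreservesKernel.iso yI _ ≪≫
    kernel.mapIso _ f eX eY (by simp)⟩⟩

lemma inC_cokernel (f : X ⟶ Y) (hX : InC X) (hY : InC Y) : InC (cokernel f) := by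
  obtain ⟨X₀, ⟨eX⟩⟩ := hX
  obtain ⟨Y₀, ⟨eY⟩⟩ := hY
  exact ⟨cokernel ((yI).preimage (eX.hom ≫ f ≫ eY.inv)), ⟨PreservesCokernel.iso yI _ ≪≫
    cokernel.mapIso _ f eX eY (by simp)⟩⟩

lemma inC_image (f : X ⟶ Y) (hX : InC X) (hY : InC Y) : InC (Abelian.image f) :=
  inC_kernel _ hY (inC_cokernel f hX hY)

lemma inC_biprod (hX : InC X) (hY : InC Y) : InC (X ⊞ Y) := by
  have := preservesBinaryBiproducts_of_preservesBinaryProducts (Ind.yoneda (C := C))
  obtain ⟨X₀, ⟨eX⟩⟩ := hX
  obtain ⟨Y₀, ⟨eY⟩⟩ := hY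
  exact ⟨X₀ ⊞ Y₀, ⟨(yI).mapBiprod X₀ Y₀ ≪≫ biprod.mapIso eX eY⟩⟩

lemma inC_extension (f : X ⟶ Y) (g : Y ⟶ Z) [Mono f] [Epi g] (w : f ≫ g = 0)
    (hex : (ShortComplex.mk f g w).Exact) (hX : InC X) (hZ : InC Z) : InC Y := by
  obtain ⟨Z₀, ⟨eZ⟩⟩ := hZ
  obtain ⟨Z', π, hπ, b, hb⟩ := exists_refinement g Z₀ eZ.hom
  let φ : X ⊞ (yI).obj Z' ⟶ Y := biprod.desc f b
  have hbg : Epi (b ≫ g) := by rw [← hb]; infer_instance
  have : Epi φ := by
    refine Preadditive.epi_of_cancel_zero _ fun {T} c hc => ?_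
    have h1 : f ≫ c = 0 := by simpa [φ] using congr_arg (biprod.inl ≫ ·) hc
    have h2 : b ≫ c = 0 := by simpa [φ] using congr_arg (biprod.inr ≫ ·) hc
    obtain ⟨d, rfl⟩ : ∃ d, g ≫ d = c := ⟨hex.desc c h1, hex.g_desc c h1⟩
    rw [← Category.assoc] at h2
    rw [(cancel_epi (b ≫ g)).1 (h2.trans comp_zero.symm), comp_zero]
  have hXZ : InC (X ⊞ (yI).obj Z') := inC_biprod hX (Functor.obj_mem_essImage _ _)
  let K := kernel ((biprod.snd : X ⊞ (yI).obj Z' ⟶ _) ≫ b ≫ g)
  have hK : InC K := inC_kernel _ hXZ ⟨Z₀, ⟨eZ⟩⟩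
  have hφg : φ ≫ g = biprod.snd ≫ b ≫ g := by ext <;> simp [φ, w]
  let χ : K ⟶ X := hex.lift (kernel.ι _ ≫ φ) (by
    show (kernel.ι _ ≫ φ) ≫ g = 0
    rw [Category.assoc, hφg, kernel.condition])
  have hχ : χ ≫ f = kernel.ι _ ≫ φ := hex.lift_f _ _
  let e : kernel χ ≅ kernel φ :=
    { hom := kernel.lift φ (kernel.ι χ ≫ kernel.ι _) (by
        rw [Category.assoc, ← hχ, kernel.condition_assoc, zero_comp])
      inv := kernel.lift χ (kernel.lift _ (kernel.ι φ)
          (by rw [← hφg, kernel.condition_assoc, zero_comp])) (by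
        rw [← cancel_mono f, Category.assoc, hχ, kernel.lift_ι_assoc, kernel.condition, zero_comp])
      hom_inv_id := by ext : 1; ext : 1; simp [K]
      inv_hom_id := by ext : 1; simp [K] }
  exact inC_of_iso ((Abelian.epiIsCokernelOfKernel _ (kernelIsKernel φ)).coconePointUniqueUpToIso
    (cokernelIsCokernel _)).symm (inC_cokernel _ (inC_of_iso e (inC_kernel χ hK hX)) hXZ)

lemma inC_of_exact₅ {W V : Ind C} (p : X ⟶ Y) (q : Y ⟶ Z) (r : Z ⟶ W) (s : W ⟶ V)
    (hpq : p ≫ q = 0) (hqr : q ≫ r = 0) (hrs : r ≫ s = 0)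
    (h1 : (ShortComplex.mk p q hpq).Exact) (h2 : (ShortComplex.mk q r hqr).Exact)
    (h3 : (ShortComplex.mk r s hrs).Exact)
    (hX : InC X) (hY : InC Y) (hW : InC W) (hV : InC V) : InC Z := by
  let i : cokernel p ⟶ Z := cokernel.desc p q hpq
  have : Mono i := h1.mono_cokernelDesc
  let j : Z ⟶ kernel s := kernel.lift s r hrs
  have : Epi j := h3.epi_kernelLift
  have w : i ≫ j = 0 := by
    ext
    simp [i, j, hqr]
  refine inC_extension i j w ?_ (inC_cokernel p hX hY) (inC_kernel s hW hV)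
  have h2' := h2
  rw [ShortComplex.exact_iff_exact_up_to_refinements] at h2' ⊢
  intro T a ha
  obtain ⟨T', π, hπ, b, hb⟩ := h2' a (by
    have := congr_arg (· ≫ kernel.ι s) ha
    simpa [j] using this)
  exact ⟨T', π, hπ, b ≫ cokernel.π p, hb.trans (by simp [i])⟩

end closure

end Groth.Agent.IndCof45
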