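import Groth.Agent.IndCof45.Basic
import Mathlib.CategoryTheory.Subobject.Limits
import Mathlib.RingTheory.Coprime.Lemmas

universe v u

open CategoryTheory Limits Opposite

namespace Groth.Agent.IndCof45

variable {C : Type v} [SmallCategory C] [Abelian C]

local notation "yI" => (Ind.yoneda (C := C))

section general

variable {V : Type*} [Category V] [Abelian V] {A B : V}

lemma comp_nsmul_id {T : V} (a : T ⟶ A) (m : ℕ) : a ≫ (m • 𝟙 A) = m • a := by
  rw [Preadditive.comp_nsmul, Category.comp_id]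

lemma nsmul_id_comp {T : V} (c : A ⟶ T) (m : ℕ) : (m • 𝟙 A) ≫ c = m • c := by
  rw [Preadditive.nsmul_comp, Category.id_comp]

lemma nsmul_kernel_ι (A : V) (m : ℕ) : m • kernel.ι (m • 𝟙 A) = 0 :=
  (comp_nsmul_id _ m).symm.trans (kernel.condition _)

lemma nsmul_cokernel_π (A : V) (m : ℕ) : m • cokernel.π (m • 𝟙 A) = 0 :=
  (nsmul_id_comp _ m).symm.trans (cokernel.condition _)

lemma image_le_iff {X Y : V} (f : X ⟶ A) (g : Y ⟶ A) :
    imageSubobject f ≤ imageSubobject g ↔ f ≫ cokernel.π g = 0 := by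
  constructor
  · intro h
    have hg : (imageSubobject g).arrow ≫ cokernel.π g = 0 := by
      rw [← cancel_epi (factorThruImageSubobject g), comp_zero, imageSubobject_arrow_comp_assoc,
        cokernel.condition]
    rw [← imageSubobject_arrow_comp f, Category.assoc, ← Subobject.ofLE_arrow h, Category.assoc,
      hg, comp_zero, comp_zero]
  · intro h
    refine imageSubobject_le f (kernel.lift (cokernel.π g) f h ≫ (Abelian.imageIsoImage g).hom ≫
      (imageSubobjectIso g).inv) ?_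
    simp only [Category.assoc, imageSubobject_arrow']
    rw [show (Abelian.imageIsoImage g).hom ≫ image.ι g = Abelian.image.ι g from
      IsImage.lift_fac (Abelian.imageStrongEpiMonoFactorisation g).toMonoIsImage
        (Image.monoFactorisation g)]
    exact kernel.lift_ι _ _ _

lemma exists_refinement_of_image_le {X Y : V} (f : X ⟶ A) (g : Y ⟶ A)
    (h : imageSubobject f ≤ imageSubobject g) :
    ∃ (X' : V) (π : X' ⟶ X) (_ : Epi π) (b : X' ⟶ Y), π ≫ f = b ≫ g := by
  obtain ⟨X', π, hπ, b, hb⟩ := surjective_up_to_refinements_of_epi (factorThruImageSubobject g)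
    (factorThruImageSubobject f ≫ Subobject.ofLE _ _ h)
  refine ⟨X', π, hπ, b, ?_⟩
  have := congr_arg (· ≫ (imageSubobject g).arrow) hb
  simpa using this

lemma exists_nsmul_coprime (n M : ℕ) (hM : 0 < M) :
    ∃ m q : ℕ, M ∣ n ^ m * q ∧ Nat.Coprime q n := by
  induction M using Nat.strong_induction_on with
  | _ M ih =>
    by_cases h : Nat.Coprime M n
    · exact ⟨0, M, by simp, h⟩
    · obtain ⟨M', hM'⟩ := Nat.gcd_dvd_left M n
      have hg : 1 < M.gcd n := by
        have : 0 < M.gcd n := Nat.gcd_pos_of_pos_left _ hM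
        have : M.gcd n ≠ 1 := h
        omega
      have hM'pos : 0 < M' := by
        rcases Nat.eq_zero_or_pos M' with h0 | h0
        · subst h0; simp at hM'; omega
        · exact h0
      obtain ⟨m, q, h1, h2⟩ := ih M' (lt_of_lt_of_eq ((Nat.lt_mul_iff_one_lt_left hM'pos).2 hg) hM'.symm) hM'pos
      refine ⟨m + 1, q, ?_, h2⟩
      rw [hM', pow_succ, mul_comm (n ^ m) n, mul_assoc]
      exact mul_dvd_mul (Nat.gcd_dvd_right M n) h1

lemma nsmul_eq_zero_of_dvd {T : V} (c : T ⟶ A) {a b : ℕ} (h : a ∣ b) (hc : a • c = 0) :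
    b • c = 0 := by
  obtain ⟨k, rfl⟩ := h
  rw [mul_comm, mul_nsmul', hc, nsmul_zero]

lemma eq_zero_of_coprime {T : V} (c : T ⟶ A) {a b : ℕ} (h : Nat.Coprime a b) (ha : a • c = 0)
    (hb : b • c = 0) : c = 0 := by
  obtain ⟨u, v, huv⟩ := Nat.isCoprime_iff_coprime.2 h
  calc c = (1 : ℤ) • c := (one_zsmul c).symm
    _ = 0 := by
      rw [← huv, add_zsmul, mul_zsmul, mul_zsmul,
        natCast_zsmul, natCast_zsmul, ha, hb, zsmul_zero, zsmul_zero, add_zero]

end general

lemma chain_stable (hart : ∀ X : C, IsArtinianObject X) {A : Ind C} (S : ℕ → Subobject A)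
    (hanti : ∀ k, S (k + 1) ≤ S k) {Y : Ind C} (y : Y ⟶ A) [Mono y] (hY : InC Y)
    (hS : ∀ k, InC (S k : Ind C)) (hle : ∀ k, S k ≤ Subobject.mk y) :
    ∃ N, ∀ k, N ≤ k → S k = S N := by
  obtain ⟨Y₀, ⟨eY⟩⟩ := hY
  choose X e using hS
  let e' := fun k => (e k).some
  let w := fun k => (e' k).hom ≫ Subobject.ofLE _ _ (hle k) ≫
    (Subobject.underlyingIso y).hom ≫ eY.inv
  let s := fun k => (yI).preimage (w k)
  have hs : ∀ k, Mono (s k) := fun k => (yI).mono_of_mono_map (by
    simp only [s, Functor.map_preimage, w]; infer_instance)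
  have hW : ∀ k, Subobject.mk (s (k + 1)) ≤ Subobject.mk (s k) := fun k => by
    refine Subobject.mk_le_mk_of_comm
      ((yI).preimage ((e' (k + 1)).hom ≫ Subobject.ofLE _ _ (hanti k) ≫ (e' k).inv)) ?_
    apply (yI).map_injective
    simp [s, w]
  have := hart Y₀
  obtain ⟨N, hN⟩ := antitone_chain_condition_of_isArtinianObject
    (⟨fun k => OrderDual.toDual (Subobject.mk (s k)), fun _ _ h => antitone_nat_of_succ_le (f := fun k => Subobject.mk (s k)) hW h⟩ : ℕ →o (Subobject Y₀)ᵒᵈ)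
  refine ⟨N, fun k hk => le_antisymm (antitone_nat_of_succ_le hanti hk) ?_⟩
  have h : Subobject.mk (s N) = Subobject.mk (s k) := hN k hk
  refine Subobject.le_of_comm ((e' N).inv ≫
    (yI).map (Subobject.ofMkLEMk _ _ h.le) ≫ (e' k).hom) ?_
  have h1 : (yI).map (Subobject.ofMkLEMk _ _ h.le) ≫ w k = w N := by
    have h2 := congr_arg (yI).map (Subobject.ofMkLEMk_comp h.le)
    rw [Functor.map_comp, Functor.map_preimage, Functor.map_preimage] at h2
    exact h2
  have h3 : ∀ i, w i ≫ eY.hom ≫ y = (e' i).hom ≫ (S i).arrow := fun i => by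
    simp [w]
  rw [Category.assoc, Category.assoc, ← h3, ← Category.assoc ((yI).map _), h1, h3,
    Iso.inv_hom_id_assoc]

section key

variable (hart : ∀ X : C, IsArtinianObject X)
  (htor : ∀ X : C, ∃ n : ℕ, 0 < n ∧ n • 𝟙 X = 0)
  {A : Ind C} (n : ℕ) (hA : ∀ j : ℕ, InC (kernel ((n ^ j) • 𝟙 A)))

include hart htor hA

lemma exists_stable : ∃ N, ∀ (T : Ind C) (c : A ⟶ T),
    kernel.ι ((n ^ N) • 𝟙 A) ≫ c = 0 → n • c = 0 → c = 0 := by
  let g := fun m => kernel.ι ((n ^ (m + 1)) • 𝟙 A) ≫ ((n ^ m) • 𝟙 A)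
  let h := fun m => kernel.lift ((n ^ 1) • 𝟙 A) (g m) (by
    simp only [g, comp_nsmul_id, smul_smul]
    rw [pow_one, ← pow_succ', nsmul_kernel_ι])
  let I := fun m => imageSubobject (g m)
  have hI : ∀ m, InC (I m : Ind C) := fun m => by
    have : image.ι (h m) ≫ kernel.ι _ = image.ι (h m) ≫ kernel.ι ((n ^ 1) • 𝟙 A) := rfl
    refine inC_of_iso ((Abelian.imageIsoImage (h m)) ≪≫
      image.isoStrongEpiMono (f := g m) (factorThruImage (h m))
        (image.ι (h m) ≫ kernel.ι ((n ^ 1) • 𝟙 A)) (by simp [h]) ≪≫ (imageSubobjectIso _).symm)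
      (inC_image _ (hA _) (hA _))
  have hanti : ∀ m, I (m + 1) ≤ I m := fun m => by
    have : g (m + 1) = kernel.lift ((n ^ (m + 1)) • 𝟙 A)
        (n • kernel.ι ((n ^ (m + 1 + 1)) • 𝟙 A)) (by
          rw [comp_nsmul_id, smul_smul, ← pow_succ, nsmul_kernel_ι]) ≫ g m := by
      simp only [g, comp_nsmul_id, Preadditive.comp_nsmul, Category.comp_id, kernel.lift_ι, smul_smul, ← pow_succ]
    show imageSubobject (g (m + 1)) ≤ _
    rw [this]
    exact imageSubobject_comp_le _ _
  obtain ⟨N, hN⟩ := chain_stable hart I hanti (kernel.ι ((n ^ 1) • 𝟙 A)) (hA 1) hI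
    (fun m => imageSubobject_le _ (h m ≫ (Subobject.underlyingIso _).inv) (by simp [h]))
  refine ⟨N, fun T c hc hnc => ?_⟩
  have key : ∀ k, kernel.ι ((n ^ (N + k)) • 𝟙 A) ≫ c = 0 := by
    intro k
    induction k with
    | zero => simpa using hc
    | succ k ih =>
      have hle : I (N + k) ≤ I (N + k + 1) := by
        rw [hN (N + k) (by omega), hN (N + k + 1) (by omega)]
      obtain ⟨T', π, hπ, b, hb⟩ := exists_refinement_of_image_le _ _ hle
      rw [← cancel_epi π, comp_zero]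
      simp only [g, comp_nsmul_id, Preadditive.comp_nsmul, Category.comp_id] at hb
      let a := π ≫ kernel.ι ((n ^ (N + k + 1)) • 𝟙 A)
      let b' := b ≫ kernel.ι ((n ^ (N + k + 1 + 1)) • 𝟙 A)
      have hd : (n ^ (N + k)) • (a - n • b') = 0 := by
        rw [smul_sub, smul_smul, ← pow_succ, sub_eq_zero]
        exact hb
      have h1 : (a - n • b') ≫ c = 0 := by
        rw [← kernel.lift_ι ((n ^ (N + k)) • 𝟙 A) (a - n • b') (by rw [comp_nsmul_id, hd]),
          Category.assoc, ih, comp_zero]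
      rw [Preadditive.sub_comp, Preadditive.nsmul_comp, ← Preadditive.comp_nsmul, hnc, comp_zero,
        sub_zero] at h1
      rw [← Category.assoc]
      exact h1
  refine eq_zero_of_yoneda c fun X a => ?_
  obtain ⟨M, hM, ha⟩ := exists_torsion htor X a
  obtain ⟨m, q, hdvd, hcop⟩ := exists_nsmul_coprime n M hM
  refine eq_zero_of_coprime _ hcop ?_ (by rw [← Preadditive.comp_nsmul, hnc, comp_zero])
  have h2 : (n ^ (N + m)) • (q • a) = 0 := by
    rw [smul_smul]
    refine nsmul_eq_zero_of_dvd a (hdvd.trans ?_) ha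
    rw [pow_add, mul_assoc]
    exact dvd_mul_left _ _
  rw [← Preadditive.nsmul_comp,
    ← kernel.lift_ι ((n ^ (N + m)) • 𝟙 A) (q • a) (by rw [comp_nsmul_id, h2]), Category.assoc,
    key, comp_zero]

lemma exists_pow_stable : ∃ N, ∀ k, N ≤ k → ∀ (T : Ind C) (c : A ⟶ T),
    (n ^ (k + 1)) • c = 0 → (n ^ k) • c = 0 := by
  obtain ⟨N, hN⟩ := exists_stable hart htor n hA
  refine ⟨N, fun k hk T c hc => hN T _ ?_ (by rw [smul_smul, ← pow_succ']; exact hc)⟩
  rw [Preadditive.comp_nsmul, ← Preadditive.nsmul_comp,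
    nsmul_eq_zero_of_dvd _ (pow_dvd_pow n hk) (nsmul_kernel_ι A _), zero_comp]

lemma image_pow_stable : ∃ N, ∀ k, N ≤ k →
    imageSubobject ((n ^ k) • 𝟙 A) = imageSubobject ((n ^ N) • 𝟙 A) := by
  obtain ⟨N, hN⟩ := exists_pow_stable hart htor n hA
  refine ⟨N, fun k hk => ?_⟩
  induction k, hk using Nat.le_induction with
  | base => rfl
  | succ k hk ih =>
    rw [← ih]
    refine le_antisymm ?_ ?_
    · rw [image_le_iff, nsmul_id_comp, pow_succ, mul_comm, mul_nsmul', nsmul_cokernel_π, nsmul_zero]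
    · rw [image_le_iff, nsmul_id_comp]
      exact hN k hk _ _ (nsmul_cokernel_π _ _)

lemma inC_cokernel_nsmul : InC (cokernel (n • 𝟙 A)) := by
  obtain ⟨N, hN⟩ := exists_stable hart htor n hA
  let φ := kernel.ι ((n ^ N) • 𝟙 A) ≫ cokernel.π (n • 𝟙 A)
  have : Epi φ := by
    refine Preadditive.epi_of_cancel_zero _ fun {T} c hc => ?_
    rw [← cancel_epi (cokernel.π (n • 𝟙 A)), comp_zero]
    refine hN T _ (by simpa [φ] using hc) ?_
    rw [← Preadditive.nsmul_comp, nsmul_cokernel_π, zero_comp]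
  let h : kernel ((n ^ (N + 1)) • 𝟙 A) ⟶ kernel ((n ^ N) • 𝟙 A) :=
    kernel.lift _ (n • kernel.ι _) (by rw [comp_nsmul_id, smul_smul, ← pow_succ, nsmul_kernel_ι])
  have w : h ≫ φ = 0 := by
    simp only [h, φ, kernel.lift_ι_assoc]
    rw [Preadditive.nsmul_comp, ← Preadditive.comp_nsmul, nsmul_cokernel_π, comp_zero]
  have hex : (ShortComplex.mk h φ w).Exact := by
    rw [ShortComplex.exact_iff_exact_up_to_refinements]
    intro T a ha
    have hex' : (ShortComplex.mk (n • 𝟙 A) (cokernel.π (n • 𝟙 A)) (cokernel.condition _)).Exact :=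
      ShortComplex.exact_of_g_is_cokernel _ (cokernelIsCokernel _)
    rw [ShortComplex.exact_iff_exact_up_to_refinements] at hex'
    obtain ⟨T', π, hπ, b, hb⟩ := hex' (a ≫ kernel.ι ((n ^ N) • 𝟙 A)) (by simpa [φ] using ha)
    simp only [comp_nsmul_id] at hb
    refine ⟨T', π, hπ, kernel.lift _ b ?_, ?_⟩
    · rw [comp_nsmul_id, pow_succ, mul_nsmul', ← hb, ← Category.assoc,
        ← Preadditive.comp_nsmul, nsmul_kernel_ι, comp_zero]
    · rw [← cancel_mono (kernel.ι ((n ^ N) • 𝟙 A))]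
      simp only [h, Category.assoc, kernel.lift_ι, Preadditive.comp_nsmul]
      rw [hb]
  exact inC_of_iso ((cokernelIsCokernel h).coconePointUniqueUpToIso hex.gIsCokernel)
    (inC_cokernel h (hA _) (hA _))

end key

instance : (ShortComplex.π₁ (C := Ind C)).Additive where
instance : (ShortComplex.π₂ (C := Ind C)).Additive where
instance : (ShortComplex.π₃ (C := Ind C)).Additive where

lemma inC_kernel_of_shortExact {S : ShortComplex (Ind C)} (hS : S.ShortExact) (m : ℕ)
    (h1 : InC (kernel (m • 𝟙 S.X₁))) (h2 : InC (kernel (m • 𝟙 S.X₂)))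
    (h3 : InC (cokernel (m • 𝟙 S.X₁))) (h4 : InC (cokernel (m • 𝟙 S.X₂))) :
    InC (kernel (m • 𝟙 S.X₃)) := by
  have := hS.mono_f
  have := hS.epi_g
  let v := m • 𝟙 S
  let D : ShortComplex.SnakeInput (Ind C) :=
    { L₀ := kernel v, L₁ := S, L₂ := S, L₃ := cokernel v
      v₀₁ := kernel.ι v, v₁₂ := v, v₂₃ := cokernel.π v
      h₀ := kernelIsKernel v, h₃ := cokernelIsCokernel v
      L₁_exact := hS.exact, L₂_exact := hS.exact
      epi_L₁_g := inferInstance, mono_L₂_f := inferInstance }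
  have e1 : (ShortComplex.π₁ (C := Ind C)).map v = m • 𝟙 S.X₁ := Functor.map_nsmul _
  have e2 : (ShortComplex.π₂ (C := Ind C)).map v = m • 𝟙 S.X₂ := Functor.map_nsmul _
  have e3 : (ShortComplex.π₃ (C := Ind C)).map v = m • 𝟙 S.X₃ := Functor.map_nsmul _
  refine inC_of_iso (PreservesKernel.iso ShortComplex.π₃ v ≪≫ kernelIsoOfEq e3) ?_
  exact inC_of_exact₅ D.L₀.f D.L₀.g D.δ D.L₃.f D.L₀.zero D.L₀_g_δ D.δ_L₃_f D.L₀_exact
    D.L₁'_exact D.L₂'_exact
    (inC_of_iso (PreservesKernel.iso ShortComplex.π₁ v ≪≫ kernelIsoOfEq e1).symm h1)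
    (inC_of_iso (PreservesKernel.iso ShortComplex.π₂ v ≪≫ kernelIsoOfEq e2).symm h2)
    (inC_of_iso (PreservesCokernel.iso ShortComplex.π₁ v ≪≫ cokernelIsoOfEq e1).symm h3)
    (inC_of_iso (PreservesCokernel.iso ShortComplex.π₂ v ≪≫ cokernelIsoOfEq e2).symm h4)

lemma inC_kernel_kernel {A B : Ind C} (f : A ⟶ B) (m : ℕ) (hA : InC (kernel (m • 𝟙 A)))
    (hB : InC (kernel (m • 𝟙 B))) : InC (kernel (m • 𝟙 (kernel f))) := by
  let F := kernel.map (m • 𝟙 A) (m • 𝟙 B) f f (by rw [comp_nsmul_id, nsmul_id_comp])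
  let e : kernel F ≅ kernel (m • 𝟙 (kernel f)) :=
    { hom := kernel.lift _ (kernel.lift f (kernel.ι F ≫ kernel.ι (m • 𝟙 A)) (by
          have h1 : F ≫ kernel.ι (m • 𝟙 B) = kernel.ι (m • 𝟙 A) ≫ f := kernel.lift_ι _ _ _
          rw [Category.assoc, ← h1, kernel.condition_assoc, zero_comp]))
        (by
          ext
          simp only [comp_nsmul_id, Preadditive.nsmul_comp, kernel.lift_ι, zero_comp]
          rw [← Preadditive.comp_nsmul, nsmul_kernel_ι, comp_zero])
      inv := kernel.lift F (kernel.lift _ (kernel.ι _ ≫ kernel.ι f) (by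
          rw [comp_nsmul_id, ← Preadditive.nsmul_comp, nsmul_kernel_ι, zero_comp]))
        (by ext; simp [F])
      hom_inv_id := by ext : 1; ext : 1; simp
      inv_hom_id := by ext : 1; ext : 1; simp }
  exact inC_of_iso e (inC_kernel F hA hB)

section main

variable (hart : ∀ X : C, IsArtinianObject X)
  (htor : ∀ X : C, ∃ n : ℕ, 0 < n ∧ n • 𝟙 X = 0)

include hart htor

lemma inC_cokernel_nsmul_pow {A : Ind C} (m : ℕ) (hA : ∀ j : ℕ, InC (kernel ((m ^ j) • 𝟙 A)))
    (i : ℕ) : InC (cokernel ((m ^ i) • 𝟙 A)) :=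
  inC_cokernel_nsmul hart htor _ fun j => by rw [← pow_mul]; exact hA _

lemma inC_kernel_image {A B : Ind C} (f : A ⟶ B) (m : ℕ)
    (hA : ∀ j : ℕ, InC (kernel ((m ^ j) • 𝟙 A))) (hB : ∀ j : ℕ, InC (kernel ((m ^ j) • 𝟙 B)))
    (i : ℕ) : InC (kernel ((m ^ i) • 𝟙 (Abelian.image f))) := by
  have hK : ∀ j, InC (kernel ((m ^ j) • 𝟙 (kernel f))) := fun j =>
    inC_kernel_kernel f _ (hA j) (hB j)
  let S := ShortComplex.mk (kernel.ι f) (Abelian.factorThruImage f) (by
    rw [← cancel_mono (Abelian.image.ι f), Category.assoc, Abelian.image.fac, kernel.condition,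
      zero_comp])
  have hS : S.ShortExact :=
    { exact := by
        rw [ShortComplex.exact_iff_exact_up_to_refinements]
        intro T a ha
        refine ⟨T, 𝟙 _, inferInstance, kernel.lift f a ?_, (Category.id_comp a).trans (kernel.lift_ι f a _).symm⟩
        have := congr_arg (· ≫ Abelian.image.ι f) ha
        simpa [S] using this
      mono_f := by dsimp [S]; infer_instance
      epi_g := by dsimp [S]; infer_instance }
  exact inC_kernel_of_shortExact hS _ (hK i) (hA i) (inC_cokernel_nsmul_pow hart htor m hK i)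
    (inC_cokernel_nsmul_pow hart htor m hA i)

lemma inC_kernel_cokernel {A B : Ind C} (f : A ⟶ B) (m : ℕ)
    (hA : ∀ j : ℕ, InC (kernel ((m ^ j) • 𝟙 A))) (hB : ∀ j : ℕ, InC (kernel ((m ^ j) • 𝟙 B))) :
    InC (kernel (m • 𝟙 (cokernel f))) := by
  have hI := inC_kernel_image hart htor f m hA hB
  let S := ShortComplex.mk (Abelian.image.ι f) (cokernel.π f) (kernel.condition _)
  have hS : S.ShortExact :=
    { exact := ShortComplex.exact_of_f_is_kernel _ (kernelIsKernel _)
      mono_f := by dsimp [S]; infer_instance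
      epi_g := by dsimp [S]; infer_instance }
  rw [← pow_one m]
  exact inC_kernel_of_shortExact hS _ (hI 1) (hB 1) (inC_cokernel_nsmul_pow hart htor m hI 1)
    (inC_cokernel_nsmul_pow hart htor m hB 1)

end main

end Groth.Agent.IndCof45
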