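import Groth.Agent.IndCof45.Cofinite
import Mathlib.Data.Nat.Factorization.Induction
import Mathlib.Algebra.Order.BigOperators.Ring.Finset

universe v u w

open CategoryTheory Limits Opposite

namespace Groth.Agent.IndCof45

section general

variable {V : Type u} [Category.{v} V] [Abelian V] {A : V}

lemma arrow_cokernel_π (S : Subobject A) : S.arrow ≫ cokernel.π S.arrow = 0 :=
  cokernel.condition _

lemma le_iff_arrow_cokernel (S T : Subobject A) :
    S ≤ T ↔ S.arrow ≫ cokernel.π T.arrow = 0 := by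
  constructor
  · intro h
    rw [← Subobject.ofLE_arrow h, Category.assoc, cokernel.condition, comp_zero]
  · intro h
    exact Subobject.le_of_comm (Abelian.monoLift T.arrow S.arrow h) (Abelian.monoLift_comp _ _ _)

lemma imageSubobject_arrow_comp_cokernel_π {X : V} (g : X ⟶ A) :
    (imageSubobject g).arrow ≫ cokernel.π g = 0 := by
  rw [← cancel_epi (factorThruImageSubobject g), comp_zero, imageSubobject_arrow_comp_assoc,
    cokernel.condition]

lemma comp_cokernel_π_arrow {X : V} (g : X ⟶ A) :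
    g ≫ cokernel.π (imageSubobject g).arrow = 0 := by
  refine (congr_arg (· ≫ cokernel.π _) (imageSubobject_arrow_comp g).symm).trans ?_
  show (_ ≫ _) ≫ _ = 0
  rw [Category.assoc, cokernel.condition, comp_zero]

lemma nsmul_π_image (A : V) (k : ℕ) :
    k • cokernel.π (imageSubobject (k • 𝟙 A)).arrow = 0 :=
  (nsmul_id_comp _ k).symm.trans (comp_cokernel_π_arrow _)

lemma image_le_subobject_iff {X : V} (g : X ⟶ A) (S : Subobject A) :
    imageSubobject g ≤ S ↔ g ≫ cokernel.π S.arrow = 0 := by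
  rw [le_iff_arrow_cokernel, ← cancel_epi (factorThruImageSubobject g), comp_zero,
    imageSubobject_arrow_comp_assoc]

lemma subobject_le_image {S : Subobject A} {k : ℕ} (h : Epi (k • 𝟙 (S : V))) :
    S ≤ imageSubobject (k • 𝟙 A) := by
  rw [le_iff_arrow_cokernel, ← cancel_epi (k • 𝟙 (S : V)), comp_zero, nsmul_id_comp,
    ← Preadditive.comp_nsmul, nsmul_π_image, comp_zero]

lemma image_le_of_nsmul {S : Subobject A} {k : ℕ} (h : k • 𝟙 (cokernel S.arrow) = 0) :
    imageSubobject (k • 𝟙 A) ≤ S := by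
  rw [image_le_subobject_iff, nsmul_id_comp, ← comp_nsmul_id, h, comp_zero]

lemma nsmul_cokernel_image (A : V) (k : ℕ) :
    k • 𝟙 (cokernel (imageSubobject (k • 𝟙 A)).arrow) = 0 := by
  rw [← cancel_epi (cokernel.π (imageSubobject (k • 𝟙 A)).arrow), comp_zero, comp_nsmul_id,
    nsmul_π_image]

lemma epi_nsmul_of_image {a k : ℕ}
    (h : imageSubobject (a • 𝟙 A) ≤ imageSubobject ((k * a) • 𝟙 A)) :
    Epi (k • 𝟙 (imageSubobject (a • 𝟙 A) : V)) := by
  refine Preadditive.epi_of_cancel_zero _ fun {T} c hc => ?_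
  rw [nsmul_id_comp] at hc
  obtain ⟨T', π, hπ, b, hb⟩ := exists_refinement_of_image_le _ _ h
  simp only [comp_nsmul_id] at hb
  have h1 : π ≫ factorThruImageSubobject (a • 𝟙 A) =
      k • (b ≫ factorThruImageSubobject (a • 𝟙 A)) := by
    rw [← cancel_mono (imageSubobject (a • 𝟙 A)).arrow, Preadditive.nsmul_comp, Category.assoc,
      Category.assoc, imageSubobject_arrow_comp, comp_nsmul_id, comp_nsmul_id, smul_smul]
    exact hb
  rw [← cancel_epi (π ≫ factorThruImageSubobject (a • 𝟙 A)), comp_zero, h1,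
    Preadditive.nsmul_comp, ← Preadditive.comp_nsmul, hc, comp_zero]

theorem mittagLeffler_iff (B : V) :
    ((∀ n : ℕ, 0 < n → ∃ m : ℕ, 0 < m ∧ n ∣ m ∧ ∀ m' : ℕ, 0 < m' → m ∣ m' →
        imageSubobject ((m' / n) • 𝟙 B) = imageSubobject ((m / n) • 𝟙 B)) ↔
      ∃ B' : Subobject B, (∀ k : ℕ, 0 < k → Epi (k • 𝟙 (B' : V))) ∧
        ∃ M : ℕ, 0 < M ∧ M • 𝟙 (cokernel B'.arrow) = 0) ∧
    (∀ B' : Subobject B, (∀ k : ℕ, 0 < k → Epi (k • 𝟙 (B' : V))) →
      (∃ M : ℕ, 0 < M ∧ M • 𝟙 (cokernel B'.arrow) = 0) →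
      ∀ D : Subobject B, (∀ k : ℕ, 0 < k → Epi (k • 𝟙 (D : V))) → D ≤ B') := by
  refine ⟨⟨fun h => ?_, ?_⟩, ?_⟩
  · obtain ⟨M, hM, -, hst⟩ := h 1 one_pos
    simp only [Nat.div_one] at hst
    exact ⟨imageSubobject (M • 𝟙 B), fun k hk => epi_nsmul_of_image
      (hst (k * M) (Nat.mul_pos hk hM) (dvd_mul_left _ _)).ge, M, hM, nsmul_cokernel_image B M⟩
  · rintro ⟨B', hdiv, M, hM, hq⟩ n hn
    refine ⟨n * M, Nat.mul_pos hn hM, dvd_mul_right _ _, fun m' hm' hdvd => ?_⟩
    obtain ⟨t, rfl⟩ := hdvd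
    rw [mul_assoc, Nat.mul_div_cancel_left _ hn, Nat.mul_div_cancel_left _ hn]
    have key : ∀ K, M ∣ K → 0 < K → imageSubobject (K • 𝟙 B) = B' := fun K hK hK0 =>
      le_antisymm (image_le_of_nsmul (nsmul_eq_zero_of_dvd _ hK hq)) (subobject_le_image (hdiv K hK0))
    rw [key _ (dvd_mul_right _ _) (Nat.mul_pos hM (Nat.pos_of_mul_pos_left hm')), key _ dvd_rfl hM]
  · rintro B' - ⟨M, hM, hq⟩ D hD
    exact (subobject_le_image (hD M hM)).trans (image_le_of_nsmul hq)

end general

variable {C : Type v} [SmallCategory C] [Abelian C]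

local notation "yI" => (Ind.yoneda (C := C))

lemma exists_nsmul_id_eq_zero (htor : ∀ X : C, ∃ n : ℕ, 0 < n ∧ n • 𝟙 X = 0) {Q : Ind C}
    (hQ : InC Q) : ∃ M : ℕ, 0 < M ∧ M • 𝟙 Q = 0 := by
  obtain ⟨X, ⟨e⟩⟩ := hQ
  obtain ⟨M, hM, h⟩ := exists_torsion htor X e.hom
  exact ⟨M, hM, by rw [← cancel_epi e.hom, comp_zero, comp_nsmul_id, h]⟩

lemma inC_kernel_image_nsmul {A : Ind C} (hart : ∀ X : C, IsArtinianObject X)
    (htor : ∀ X : C, ∃ n : ℕ, 0 < n ∧ n • 𝟙 X = 0) (m : ℕ)
    (hA : ∀ j : ℕ, InC (kernel ((m ^ j) • 𝟙 A))) (k i : ℕ) :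
    InC (kernel ((m ^ i) • 𝟙 (imageSubobject (k • 𝟙 A) : Ind C))) := by
  let e : Abelian.image (k • 𝟙 A) ≅ (imageSubobject (k • 𝟙 A) : Ind C) :=
    Abelian.imageIsoImage _ ≪≫ (imageSubobjectIso _).symm
  refine inC_of_iso (kernel.mapIso _ _ e e ?_) (inC_kernel_image hart htor _ m hA hA i)
  rw [comp_nsmul_id, nsmul_id_comp]

section artinian

variable (hart : ∀ X : C, IsArtinianObject X) (p : ℕ) (hp : p.Prime)
  (htor : ∀ X : C, ∃ n : ℕ, (p ^ n) • 𝟙 X = 0)

include hart hp htor

lemma chain_eventually_constant (A : Ind C) (hA : ∀ n : ℕ, InC (kernel ((p ^ n) • 𝟙 A)))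
    (S : ℕ → Subobject A) (hS : Antitone S)
    (hcof : ∀ m n : ℕ, InC (kernel ((p ^ n) • 𝟙 ((S m : Subobject A) : Ind C)))) :
    ∃ N : ℕ, ∀ m : ℕ, N ≤ m → S m = S N := by
  have htor' : ∀ X : C, ∃ n : ℕ, 0 < n ∧ n • 𝟙 X = 0 := fun X =>
    (htor X).imp' (fun n => p ^ n) fun n h => ⟨pow_pos hp.pos n, h⟩
  -- the stationary values of the torsion layers
  let u := fun j m => kernel.ι ((p ^ j) • 𝟙 (S m : Ind C)) ≫ (S m).arrow
  have hu : ∀ j m, (p ^ j) • u j m = 0 := fun j m => by
    rw [← Preadditive.nsmul_comp, nsmul_kernel_ι, zero_comp]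
  have hlayer : ∀ j, ∃ K, ∀ m, K ≤ m → Subobject.mk (u j m) = Subobject.mk (u j K) := fun j =>
    chain_stable hart (fun m => Subobject.mk (u j m))
      (fun m => Subobject.mk_le_mk_of_comm
        (kernel.map _ _ (Subobject.ofLE _ _ (hS (Nat.le_succ m)))
          (Subobject.ofLE _ _ (hS (Nat.le_succ m))) (by rw [comp_nsmul_id, nsmul_id_comp]))
        (by simp [u]))
      (kernel.ι ((p ^ j) • 𝟙 A)) (hA j)
      (fun m => inC_of_iso (Subobject.underlyingIso _).symm (hcof m j))
      (fun m => Subobject.mk_le_mk_of_comm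
        (kernel.lift _ (u j m) (by rw [comp_nsmul_id, hu])) (by simp))
  choose K hK using hlayer
  -- the intersection
  let T : Subobject A := imageSubobject (Sigma.desc fun j : ULift.{v} ℕ => u j.down (K j.down))
  have hTS : ∀ m, T ≤ S m := fun m => by
    rw [image_le_subobject_iff]
    refine Sigma.hom_ext _ _ fun ⟨j⟩ => ?_
    rw [Sigma.ι_desc_assoc, comp_zero]
    have h1 : Subobject.mk (u j (K j)) ≤ S m := by
      rw [← hK j (max m (K j)) (le_max_right _ _)]
      exact (Subobject.mk_le_of_comm (kernel.ι _) (by simp [u])).trans (hS (le_max_left _ _))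
    rw [← Subobject.ofMkLE_arrow h1, Category.assoc, cokernel.condition, comp_zero]
  have mem_T : ∀ j {W : Ind C} (a : W ⟶ A), (p ^ j) • a = 0 →
      (∀ m, a ≫ cokernel.π (S m).arrow = 0) → a ≫ cokernel.π T.arrow = 0 := by
    intro j W a ha ham
    let b := Abelian.monoLift (S (K j)).arrow a (ham _)
    have hb : (p ^ j) • b = 0 := by
      rw [← cancel_mono (S (K j)).arrow, Preadditive.nsmul_comp, Abelian.monoLift_comp, ha,
        zero_comp]
    have : a = kernel.lift _ b (by rw [comp_nsmul_id, hb]) ≫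
        Sigma.ι (fun j : ULift.{v} ℕ => kernel ((p ^ j.down) • 𝟙 (S (K j.down) : Ind C)))
          ⟨j⟩ ≫ Sigma.desc fun j : ULift.{v} ℕ => u j.down (K j.down) := by
      simp [u, b]
    rw [this, Category.assoc, Category.assoc, comp_cokernel_π_arrow, comp_zero, comp_zero]
  have hTA : ∀ j, InC (kernel ((p ^ j) • 𝟙 (T : Ind C))) := fun j => by
    let x := kernel.ι ((p ^ j) • 𝟙 (T : Ind C)) ≫ T.arrow
    have hx : (p ^ j) • x = 0 := by rw [← Preadditive.nsmul_comp, nsmul_kernel_ι, zero_comp]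
    have e : Subobject.mk x = Subobject.mk (u j (K j)) := by
      refine le_antisymm (Subobject.mk_le_mk_of_comm
        (kernel.map _ _ (Subobject.ofLE _ _ (hTS _)) (Subobject.ofLE _ _ (hTS _))
          (by rw [comp_nsmul_id, nsmul_id_comp])) (by simp [x, u])) ?_
      have hmem : u j (K j) ≫ cokernel.π T.arrow = 0 := by
        refine mem_T j _ (hu j (K j)) fun m => ?_
        have h1 : Subobject.mk (u j (K j)) ≤ S m := by
          rw [← hK j (max m (K j)) (le_max_right _ _)]
          exact (Subobject.mk_le_of_comm (kernel.ι _) (by simp [u])).trans (hS (le_max_left _ _))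
        rw [← Subobject.ofMkLE_arrow h1, Category.assoc, cokernel.condition, comp_zero]
      refine Subobject.mk_le_mk_of_comm (kernel.lift _ (Abelian.monoLift T.arrow _ hmem) ?_)
        (by simp only [x]; rw [kernel.lift_ι_assoc, Abelian.monoLift_comp])
      rw [comp_nsmul_id, ← cancel_mono T.arrow, Preadditive.nsmul_comp, Abelian.monoLift_comp, hu,
        zero_comp]
    exact inC_of_iso (Subobject.isoOfMkEqMk _ _ e.symm) (hcof (K j) j)
  have hpow : ∀ {B : Ind C}, (∀ n, InC (kernel ((p ^ n) • 𝟙 B))) →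
      ∀ j, InC (kernel (((p ^ 1) ^ j) • 𝟙 B)) := fun hB j => by rw [← pow_mul]; exact hB _
  -- the socles of `S m / T` inside the socle of `A / T`
  let i := fun m => Subobject.ofLE T (S m) (hTS m)
  let q := fun m => cokernel.map (i m) T.arrow (𝟙 (T : Ind C)) (S m).arrow (by simp [i])
  have hq : ∀ m, Mono (q m) := fun m => by
    refine Preadditive.mono_of_cancel_zero _ fun {W} c hc => ?_
    obtain ⟨W', π, hπ, b, hb⟩ := surjective_up_to_refinements_of_epi (cokernel.π (i m)) c
    rw [← cancel_epi π, comp_zero, hb]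
    have h1 : (b ≫ (S m).arrow) ≫ cokernel.π T.arrow = 0 := by
      have := congr_arg (π ≫ ·) hc
      simp only [← Category.assoc, hb, comp_zero] at this
      simpa [q] using this
    have h2 : b = Abelian.monoLift T.arrow (b ≫ (S m).arrow) h1 ≫ i m := by
      rw [← cancel_mono (S m).arrow, Category.assoc, Subobject.ofLE_arrow, Abelian.monoLift_comp]
    rw [h2, Category.assoc, cokernel.condition, comp_zero]
  let s := fun m => kernel.map ((p ^ 1) • 𝟙 (cokernel (i m))) ((p ^ 1) • 𝟙 (cokernel T.arrow))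
    (q m) (q m) (by rw [comp_nsmul_id, nsmul_id_comp])
  have hs : ∀ m, Mono (s m ≫ kernel.ι ((p ^ 1) • 𝟙 (cokernel T.arrow))) := fun m => by
    simp only [s, kernel.map, kernel.lift_ι]; infer_instance
  obtain ⟨N, hN⟩ := chain_stable hart
    (fun m => Subobject.mk (s m ≫ kernel.ι ((p ^ 1) • 𝟙 (cokernel T.arrow))))
    (fun m => by
      let t := cokernel.map (i (m + 1)) (i m) (𝟙 (T : Ind C))
        (Subobject.ofLE _ _ (hS (Nat.le_succ m))) (by simp [i])
      have ht : t ≫ q m = q (m + 1) := by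
        rw [← cancel_epi (cokernel.π (i (m + 1)))]
        simp [t, q]
      refine Subobject.mk_le_mk_of_comm (kernel.map _ _ t t
        (by rw [comp_nsmul_id, nsmul_id_comp])) ?_
      simp [s, ht])
    (kernel.ι ((p ^ 1) • 𝟙 (cokernel T.arrow)))
    (inC_kernel_cokernel hart htor' T.arrow _ (hpow hTA) (hpow hA))
    (fun m => inC_of_iso (Subobject.underlyingIso _).symm
      (inC_kernel_cokernel hart htor' (i m) _ (hpow hTA) (hpow (hcof m))))
    (fun m => Subobject.mk_le_mk_of_comm (s m) rfl)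
  refine ⟨N, fun m hm => le_antisymm (hS hm) ?_⟩
  refine le_trans (le_of_yoneda (S N) T fun X a ha => ?_) (hTS m)
  obtain ⟨j, hj⟩ := htor X
  have hja : (p ^ j) • a = 0 := by
    rw [show (p ^ j) • a = ((p ^ j) • 𝟙 ((yI).obj X)) ≫ a from (nsmul_id_comp a _).symm,
      ← (yI).map_id, ← Functor.map_nsmul, hj, Functor.map_zero, zero_comp]
  clear hj
  induction j generalizing a with
  | zero => rw [show a = 0 by simpa using hja, zero_comp]
  | succ j ih =>
    have hpa : (p • a) ≫ cokernel.π T.arrow = 0 :=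
      ih (p • a) (by rw [Preadditive.nsmul_comp, ha, nsmul_zero])
        (by rw [smul_smul, ← pow_succ]; exact hja)
    refine mem_T (j + 1) a hja fun k => ?_
    obtain hk | hk := le_total k N
    · rw [← Abelian.monoLift_comp (S N).arrow a ha, Category.assoc,
        (le_iff_arrow_cokernel _ _).1 (hS hk), comp_zero]
    let a₀ := Abelian.monoLift (S N).arrow a ha
    let z := kernel.lift ((p ^ 1) • 𝟙 (cokernel (i N))) (a₀ ≫ cokernel.π (i N)) (by
      rw [comp_nsmul_id, pow_one, ← Preadditive.nsmul_comp]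
      have h2 : p • a₀ = Abelian.monoLift T.arrow (p • a) hpa ≫ i N := by
        rw [← cancel_mono (S N).arrow, Category.assoc, Subobject.ofLE_arrow,
          Abelian.monoLift_comp, Preadditive.nsmul_comp, Abelian.monoLift_comp]
      rw [h2, Category.assoc, cokernel.condition, comp_zero])
    obtain ⟨W, π, hπ, b, hb⟩ := surjective_up_to_refinements_of_epi (cokernel.π (i k))
      (z ≫ Subobject.ofMkLEMk _ _ (hN k hk).ge ≫ kernel.ι ((p ^ 1) • 𝟙 (cokernel (i k))))
    have h3 : Subobject.ofMkLEMk _ _ (hN k hk).ge ≫ kernel.ι ((p ^ 1) • 𝟙 (cokernel (i k))) ≫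
        q k = kernel.ι _ ≫ q N := by
      have := Subobject.ofMkLEMk_comp (hN k hk).ge
      simpa [s] using this
    have h4 : (π ≫ a - b ≫ (S k).arrow) ≫ cokernel.π T.arrow = 0 := by
      have := congr_arg (· ≫ q k) hb
      simp only [Category.assoc, h3] at this
      rw [Preadditive.sub_comp, sub_eq_zero]
      simpa [q, z, a₀, Abelian.monoLift_comp_assoc] using this
    rw [← cancel_epi π, comp_zero, ← Category.assoc]
    have h5 : π ≫ a = (π ≫ a - b ≫ (S k).arrow) + b ≫ (S k).arrow := (sub_add_cancel _ _).symm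
    rw [h5, Preadditive.add_comp, Category.assoc b, cokernel.condition, comp_zero, add_zero,
      ← Abelian.monoLift_comp T.arrow _ h4, Category.assoc,
      (le_iff_arrow_cokernel _ _).1 (hTS k), comp_zero]

lemma divisible_part (A : Ind C) (hA : ∀ n : ℕ, InC (kernel ((p ^ n) • 𝟙 A))) (N : ℕ)
    (hN : ∀ n : ℕ, N ≤ n → imageSubobject ((p ^ n) • 𝟙 A) = imageSubobject ((p ^ N) • 𝟙 A)) :
    (∀ n : ℕ, InC (kernel ((p ^ n) • 𝟙 ((imageSubobject ((p ^ N) • 𝟙 A) : Subobject A) : Ind C)))) ∧
      Epi (p • 𝟙 ((imageSubobject ((p ^ N) • 𝟙 A) : Subobject A) : Ind C)) ∧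
      (∀ D : Subobject A, Epi (p • 𝟙 (D : Ind C)) → D ≤ imageSubobject ((p ^ N) • 𝟙 A)) ∧
      (∀ (Q : Ind C) (q : A ⟶ Q), Epi q → InC Q →
        (imageSubobject ((p ^ N) • 𝟙 A)).arrow ≫ q = 0) := by
  have htor' : ∀ X : C, ∃ n : ℕ, 0 < n ∧ n • 𝟙 X = 0 := fun X =>
    (htor X).imp' (fun n => p ^ n) fun n h => ⟨pow_pos hp.pos n, h⟩
  refine ⟨fun n => inC_kernel_image_nsmul hart htor' p hA _ n,
    epi_nsmul_of_image (by rw [← pow_succ']; exact (hN _ (Nat.le_succ _)).ge), fun D hD => ?_,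
    fun Q q hq hQ => ?_⟩
  · refine subobject_le_image ?_
    induction N with
    | zero => simpa using (inferInstance : Epi (𝟙 (D : Ind C)))
    | succ N _ =>
      clear hN
      induction N + 1 with
      | zero => simpa using (inferInstance : Epi (𝟙 (D : Ind C)))
      | succ k ih =>
        rw [show (p ^ (k + 1)) • 𝟙 (D : Ind C) = (p • 𝟙 (D : Ind C)) ≫ ((p ^ k) • 𝟙 (D : Ind C)) by
          rw [comp_nsmul_id, smul_smul, pow_succ]]
        exact epi_comp _ _
  · obtain ⟨X, ⟨e⟩⟩ := hQ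
    obtain ⟨t, ht⟩ := htor X
    have hQ' : (p ^ t) • 𝟙 Q = 0 := by
      rw [← cancel_epi e.hom, comp_zero, comp_nsmul_id, ← nsmul_id_comp e.hom,
        ← (yI).map_id, ← Functor.map_nsmul, ht, Functor.map_zero, zero_comp]
    rw [← hN (max N t) (le_max_left _ _), ← cancel_epi (factorThruImageSubobject _), comp_zero,
      imageSubobject_arrow_comp_assoc, nsmul_id_comp, ← comp_nsmul_id,
      nsmul_eq_zero_of_dvd _ (pow_dvd_pow p (le_max_right N t)) hQ', comp_zero]

end artinian

section composite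

variable (hart : ∀ X : C, IsArtinianObject X)
  (htor : ∀ X : C, ∃ n : ℕ, 0 < n ∧ n • 𝟙 X = 0)
  (A : Ind C) (hA : ∀ n : ℕ, 0 < n → InC (kernel (n • 𝟙 A)))

include hart htor hA

lemma exists_prime_stable (p : ℕ) : ∃ N, p.Prime → ∀ k, N ≤ k → ∀ (T : Ind C) (c : A ⟶ T),
    (p ^ (k + 1)) • c = 0 → (p ^ k) • c = 0 := by
  by_cases hp : p.Prime
  · exact (exists_pow_stable hart htor p fun j => hA _ (pow_pos hp.pos j)).imp fun N h _ => h
  · exact ⟨0, fun h => absurd h hp⟩

lemma divisiblyML_iff :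
    ((∀ n : ℕ, 0 < n → ∃ m : ℕ, 0 < m ∧ n ∣ m ∧ ∀ m' : ℕ, 0 < m' → m ∣ m' →
        imageSubobject ((m' / n) • 𝟙 A) = imageSubobject ((m / n) • 𝟙 A)) ↔
      ∃ B' : Subobject A, (∀ k : ℕ, 0 < k → Epi (k • 𝟙 (B' : Ind C))) ∧
        InC (cokernel B'.arrow)) ∧
    ((∃ B' : Subobject A, (∀ k : ℕ, 0 < k → Epi (k • 𝟙 (B' : Ind C))) ∧
        InC (cokernel B'.arrow)) ↔
      {p : ℕ | p.Prime ∧ ¬ Epi (p • 𝟙 A)}.Finite) := by
  let ML := mittagLeffler_iff A
  have h12 : (∃ B' : Subobject A, (∀ k : ℕ, 0 < k → Epi (k • 𝟙 (B' : Ind C))) ∧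
      ∃ M : ℕ, 0 < M ∧ M • 𝟙 (cokernel B'.arrow) = 0) ↔
      ∃ B' : Subobject A, (∀ k : ℕ, 0 < k → Epi (k • 𝟙 (B' : Ind C))) ∧
        InC (cokernel B'.arrow) := by
    refine ⟨?_, fun ⟨B', h1, h2⟩ => ⟨B', h1, exists_nsmul_id_eq_zero htor h2⟩⟩
    rintro ⟨B', hdiv, M, hM, hq⟩
    refine ⟨B', hdiv, ?_⟩
    obtain rfl : B' = imageSubobject (M • 𝟙 A) :=
      le_antisymm (subobject_le_image (hdiv M hM)) (image_le_of_nsmul hq)
    let e : cokernel (M • 𝟙 A) ≅ cokernel (imageSubobject (M • 𝟙 A)).arrow :=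
      { hom := cokernel.desc _ (cokernel.π _) (comp_cokernel_π_arrow _)
        inv := cokernel.desc _ (cokernel.π _) (imageSubobject_arrow_comp_cokernel_π _)
        hom_inv_id := by ext; simp
        inv_hom_id := by ext; simp }
    exact inC_of_iso e (inC_cokernel_nsmul hart htor M fun j => hA _ (pow_pos hM j))
  refine ⟨ML.1.trans h12, ?_⟩
  rw [← h12]
  constructor
  · rintro ⟨B', hdiv, M, hM, hq⟩
    refine Set.Finite.subset (Set.finite_Iic M) fun p ⟨hp, hpe⟩ => ?_
    show p ≤ M
    by_contra hlt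
    refine hpe (Preadditive.epi_of_cancel_zero _ fun {T} c hc => ?_)
    rw [nsmul_id_comp] at hc
    have hpd : ¬ p ∣ M := fun h => hlt (Nat.le_of_dvd hM h)
    refine eq_zero_of_coprime c ((Nat.Prime.coprime_iff_not_dvd hp).2 hpd) hc ?_
    have hB : B'.arrow ≫ c = 0 := by
      have := hdiv p hp.pos
      rw [← cancel_epi (p • 𝟙 (B' : Ind C)), comp_zero, nsmul_id_comp, ← Preadditive.comp_nsmul,
        hc, comp_zero]
    rw [← cokernel.π_desc B'.arrow c hB, ← Preadditive.nsmul_comp, ← comp_nsmul_id, hq, comp_zero,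
      zero_comp]
  · intro hfin
    choose N hN using exists_prime_stable hart htor A hA
    let M := ∏ p ∈ hfin.toFinset, p ^ N p
    have hM : 0 < M := Finset.prod_pos fun p hp => pow_pos (hfin.mem_toFinset.1 hp).1.pos _
    have key : ∀ t, 0 < t → ∀ (T : Ind C) (c : A ⟶ T), (M * t) • c = 0 → M • c = 0 := by
      intro t
      induction t using Nat.recOnMul with
      | zero => intro h; exact absurd h (lt_irrefl 0)
      | one => intro _ T c h; rwa [mul_one] at h
      | prime q hq =>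
        intro _ T c h
        by_cases hbad : Epi (q • 𝟙 A)
        · rw [← cancel_epi (q • 𝟙 A), comp_zero, nsmul_id_comp, smul_smul, mul_comm]
          exact h
        · obtain ⟨s, hs⟩ : q ^ N q ∣ M :=
            Finset.dvd_prod_of_mem _ (hfin.mem_toFinset.2 ⟨hq, hbad⟩)
          rw [hs, mul_nsmul']
          refine hN q hq (N q) le_rfl T (s • c) ?_
          rw [smul_smul, pow_succ, mul_right_comm, ← hs]
          exact h
      | mul a b iha ihb =>
        intro hab T c h
        have ha : 0 < a := Nat.pos_of_mul_pos_right hab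
        have hb : 0 < b := Nat.pos_of_mul_pos_left hab
        refine iha ha T c ?_
        rw [mul_comm M a, mul_nsmul']
        rw [← mul_assoc, mul_comm (M * a), ← mul_assoc, mul_comm b M] at h
        rw [mul_nsmul'] at h
        have := ihb hb T (a • c) (by rw [smul_smul] at h ⊢; exact h)
        rw [smul_smul, mul_comm a M, ← smul_smul]
        exact this
    refine ⟨imageSubobject (M • 𝟙 A), fun k hk => epi_nsmul_of_image ?_, M, hM,
      nsmul_cokernel_image A M⟩
    rw [image_le_iff, nsmul_id_comp]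
    refine key k hk _ _ ?_
    rw [mul_comm]
    exact nsmul_cokernel_π _ _

lemma exists_largest_divisible :
    ∃ D : Subobject A, (∀ k : ℕ, 0 < k → Epi (k • 𝟙 (D : Ind C))) ∧
      (∀ D' : Subobject A, (∀ k : ℕ, 0 < k → Epi (k • 𝟙 (D' : Ind C))) → D' ≤ D) ∧
      (∀ n : ℕ, 0 < n → InC (kernel (n • 𝟙 (D : Ind C)))) ∧
      (∀ n : ℕ, 0 < n → InC (kernel (n • 𝟙 (cokernel D.arrow)))) := by
  choose N hN using exists_prime_stable hart htor A hA
  have hstab : ∀ p, p.Prime → ∀ t (T : Ind C) (c : A ⟶ T),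
      (p ^ (N p + t)) • c = 0 → (p ^ N p) • c = 0 := by
    intro p hp t
    induction t with
    | zero => exact fun T c h => h
    | succ t ih => exact fun T c h => ih T c (hN p hp _ (Nat.le_add_right _ _) T c h)
  let gen := fun i : ULift.{v} (Nat.Primes × ℕ) =>
    (i.down.1.1 ^ N i.down.1.1) • kernel.ι ((i.down.1.1 ^ i.down.2) • 𝟙 A)
  let D : Subobject A := imageSubobject (Sigma.desc gen)
  -- `p`-primary elements of `p^N A` lie in `D`
  have mem_D : ∀ (p : ℕ), p.Prime → ∀ (j : ℕ) {W : Ind C} (a b : W ⟶ A),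
      a = (p ^ N p) • b → (p ^ j) • a = 0 → a ≫ cokernel.π D.arrow = 0 := by
    intro p hp j W a b hab ha
    let i : ULift.{v} (Nat.Primes × ℕ) := ⟨⟨⟨p, hp⟩, j + N p⟩⟩
    have hb : (p ^ (j + N p)) • b = 0 := by rw [pow_add, mul_nsmul', ← hab, ha]
    have : a = kernel.lift ((p ^ (j + N p)) • 𝟙 A) b (by rw [comp_nsmul_id, hb]) ≫
        Sigma.ι (fun i : ULift.{v} (Nat.Primes × ℕ) =>
          kernel ((i.down.1.1 ^ i.down.2) • 𝟙 A)) i ≫ Sigma.desc gen := by
      rw [hab, Sigma.ι_desc]
      simp only [gen, i, Preadditive.comp_nsmul, kernel.lift_ι]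
    rw [this, Category.assoc, Category.assoc, comp_cokernel_π_arrow, comp_zero, comp_zero]
  have zero_on_D : ∀ {T : Ind C} (c : A ⟶ T),
      (∀ (p : ℕ) (_ : p.Prime) (j : ℕ),
        ((p ^ N p) • kernel.ι ((p ^ j) • 𝟙 A)) ≫ c = 0) → D.arrow ≫ c = 0 := by
    intro T c hc
    rw [← cancel_epi (factorThruImageSubobject _), comp_zero, imageSubobject_arrow_comp_assoc]
    refine Sigma.hom_ext _ _ fun i => ?_
    rw [Sigma.ι_desc_assoc, comp_zero]
    exact hc _ i.down.1.2 _
  have hdiv : ∀ k : ℕ, 0 < k → Epi (k • 𝟙 (D : Ind C)) := by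
    intro k
    induction k using Nat.recOnMul with
    | zero => intro h; exact absurd h (lt_irrefl 0)
    | one => intro _; rw [one_nsmul]; infer_instance
    | mul a b iha ihb =>
      intro hab
      have := iha (Nat.pos_of_mul_pos_right hab)
      have := ihb (Nat.pos_of_mul_pos_left hab)
      rw [show (a * b) • 𝟙 (D : Ind C) = (b • 𝟙 (D : Ind C)) ≫ (a • 𝟙 (D : Ind C)) by
        rw [comp_nsmul_id, smul_smul]]
      exact epi_comp _ _
    | prime q hq =>
      intro _
      refine Preadditive.epi_of_cancel_zero _ fun {T} c hc => ?_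
      rw [nsmul_id_comp] at hc
      -- work in the pushout to extend `c` to `A`
      let c' : A ⟶ pushout D.arrow c := pushout.inl _ _
      have hc' : D.arrow ≫ c' = c ≫ pushout.inr _ _ := pushout.condition
      suffices D.arrow ≫ c' = 0 by
        rw [← cancel_mono (pushout.inr D.arrow c), zero_comp, ← hc', this]
      have hqc : q • (D.arrow ≫ c') = 0 := by
        rw [hc', ← Preadditive.nsmul_comp, hc, zero_comp]
      have hqgen : ∀ (p : ℕ) (_ : p.Prime) (j : ℕ),
          q • (((p ^ N p) • kernel.ι ((p ^ j) • 𝟙 A)) ≫ c') = 0 := fun p hp j => by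
        have h := mem_D p hp j _ (kernel.ι ((p ^ j) • 𝟙 A)) rfl (by
          rw [smul_smul, mul_comm, mul_nsmul', nsmul_kernel_ι, nsmul_zero])
        rw [← Abelian.monoLift_comp D.arrow _ h, Category.assoc, ← Preadditive.comp_nsmul, hqc,
          comp_zero]
      refine zero_on_D c' fun p hp j => ?_
      by_cases hpq : p = q
      · subst hpq
        have hexact : (ShortComplex.mk ((p ^ (N p + 1)) • 𝟙 A)
            (cokernel.π ((p ^ (N p + 1)) • 𝟙 A)) (cokernel.condition _)).Exact :=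
          ShortComplex.exact_of_g_is_cokernel _ (cokernelIsCokernel _)
        rw [ShortComplex.exact_iff_exact_up_to_refinements] at hexact
        obtain ⟨W, π, hπ, b, hb⟩ := hexact ((p ^ N p) • kernel.ι ((p ^ j) • 𝟙 A)) (by
          show ((p ^ N p) • kernel.ι ((p ^ j) • 𝟙 A)) ≫ cokernel.π _ = 0
          rw [Preadditive.nsmul_comp, ← Preadditive.comp_nsmul,
            hN p hp (N p) le_rfl _ _ (nsmul_cokernel_π _ _), comp_zero])
        change W ⟶ A at b
        simp only [comp_nsmul_id] at hb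
        have hb' : (p ^ (j + (N p + 1))) • b = 0 := by
          rw [pow_add, ← smul_smul, ← hb, Preadditive.comp_nsmul, smul_smul, mul_comm, ← smul_smul,
            ← Preadditive.comp_nsmul, nsmul_kernel_ι, comp_zero, nsmul_zero]
        rw [← cancel_epi π, comp_zero, ← Category.assoc, hb, pow_succ', ← smul_smul,
          Preadditive.nsmul_comp]
        have h1 : kernel.lift _ b (by rw [comp_nsmul_id, hb']) ≫
            kernel.ι ((p ^ (j + (N p + 1))) • 𝟙 A) = b := kernel.lift_ι _ _ _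
        rw [← h1, ← Preadditive.comp_nsmul (kernel.lift _ b _) (kernel.ι _) (p ^ N p),
          Category.assoc, ← Preadditive.comp_nsmul, hqgen p hp, comp_zero]
      · refine eq_zero_of_coprime _ (((Nat.coprime_primes hp hq).2 hpq).pow_left j) ?_ (hqgen p hp j)
        rw [← Preadditive.nsmul_comp, smul_smul, mul_comm, mul_nsmul', nsmul_kernel_ι, nsmul_zero,
          zero_comp]
  have hmax : ∀ D' : Subobject A, (∀ k : ℕ, 0 < k → Epi (k • 𝟙 (D' : Ind C))) → D' ≤ D := by
    intro D' hD'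
    refine le_of_yoneda _ _ fun X a ha => ?_
    obtain ⟨M, hM, hMa⟩ := exists_torsion htor X a
    clear hA
    induction M using Nat.recOnPosPrimePosCoprime generalizing a with
    | prime_pow p n hp hn =>
      have := hD' (p ^ N p) (pow_pos hp.pos _)
      obtain ⟨W, π, hπ, b, hb⟩ := surjective_up_to_refinements_of_epi
        ((p ^ N p) • 𝟙 (D' : Ind C)) (Abelian.monoLift D'.arrow a ha)
      have hb' := congr_arg (· ≫ D'.arrow) hb
      simp only [comp_nsmul_id, Category.assoc, Abelian.monoLift_comp,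
        Preadditive.nsmul_comp] at hb'
      rw [← cancel_epi π, comp_zero, ← Category.assoc]
      exact mem_D p hp n _ (b ≫ D'.arrow) hb'
        (by rw [← Preadditive.comp_nsmul, hMa, comp_zero])
    | zero => exact absurd hM (lt_irrefl 0)
    | one => rw [one_nsmul] at hMa; rw [hMa, zero_comp]
    | coprime s t hs ht hst ihs iht =>
      refine eq_zero_of_coprime _ hst ?_ ?_
      · rw [← Preadditive.nsmul_comp]
        exact iht (s • a) (by rw [Preadditive.nsmul_comp, ha, nsmul_zero]) (by omega)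
          (by rw [smul_smul, mul_comm]; exact hMa)
      · rw [← Preadditive.nsmul_comp]
        exact ihs (t • a) (by rw [Preadditive.nsmul_comp, ha, nsmul_zero]) (by omega)
          (by rw [smul_smul]; exact hMa)
  have hDcof : ∀ n : ℕ, 0 < n → InC (kernel (n • 𝟙 (D : Ind C))) := by
    intro n hn
    let M := ∏ p ∈ n.primeFactors, p ^ N p
    have hM : 0 < M := Finset.prod_pos fun p hp => pow_pos (Nat.prime_of_mem_primeFactors hp).pos _
    let F := kernel.ι (n • 𝟙 A) ≫ cokernel.π (M • 𝟙 A)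
    have hDM : D.arrow ≫ cokernel.π (M • 𝟙 A) = 0 := by
      rw [← Subobject.ofLE_arrow (subobject_le_image (hdiv M hM)), Category.assoc,
        imageSubobject_arrow_comp_cokernel_π, comp_zero]
    have hF : kernel.ι F ≫ kernel.ι (n • 𝟙 A) ≫ cokernel.π D.arrow = 0 := by
      let a := kernel.ι F ≫ kernel.ι (n • 𝟙 A)
      have hna : n • a = 0 := by
        show n • (_ ≫ _) = 0
        rw [← Preadditive.comp_nsmul, nsmul_kernel_ι, comp_zero]
      have haM : a ≫ cokernel.π (M • 𝟙 A) = 0 := by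
        show (_ ≫ _) ≫ _ = 0
        rw [Category.assoc, kernel.condition]
      suffices ∀ d, 0 < d → d ∣ n → ∀ {W : Ind C} (b : W ⟶ A), d • b = 0 →
          b ≫ cokernel.π (M • 𝟙 A) = 0 → b ≫ cokernel.π D.arrow = 0 by
        rw [← Category.assoc]; exact this n hn dvd_rfl a hna haM
      intro d
      induction d using Nat.recOnPosPrimePosCoprime with
      | zero => intro h; exact absurd h (lt_irrefl 0)
      | one => intro _ _ W b hb _; rw [one_nsmul] at hb; rw [hb, zero_comp]
      | prime_pow p k hp hk =>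
        intro _ hdvd W b hb hbM
        have hexact : (ShortComplex.mk (M • 𝟙 A) (cokernel.π (M • 𝟙 A))
            (cokernel.condition _)).Exact :=
          ShortComplex.exact_of_g_is_cokernel _ (cokernelIsCokernel _)
        rw [ShortComplex.exact_iff_exact_up_to_refinements] at hexact
        obtain ⟨W', π, hπ, e, he⟩ := hexact b hbM
        simp only [comp_nsmul_id] at he
        have hpn : p ∈ n.primeFactors := Nat.mem_primeFactors.2
          ⟨hp, (dvd_pow_self p hk.ne').trans hdvd, hn.ne'⟩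
        obtain ⟨s, hs⟩ : p ^ N p ∣ M := Finset.dvd_prod_of_mem _ hpn
        rw [← cancel_epi π, comp_zero, ← Category.assoc]
        exact mem_D p hp k _ (s • e) (by rw [smul_smul, ← hs]; exact he)
          (by rw [← Preadditive.comp_nsmul, hb, comp_zero])
      | coprime s t hs ht hst ihs iht =>
        intro _ hdvd W b hb hbM
        refine eq_zero_of_coprime _ hst ?_ ?_
        · rw [← Preadditive.nsmul_comp]
          exact iht (by omega) ((dvd_mul_left t s).trans hdvd) (s • b)
            (by rw [smul_smul, mul_comm]; exact hb)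
            (by rw [Preadditive.nsmul_comp, hbM, nsmul_zero])
        · rw [← Preadditive.nsmul_comp]
          exact ihs (by omega) ((dvd_mul_right s t).trans hdvd) (t • b)
            (by rw [smul_smul]; exact hb)
            (by rw [Preadditive.nsmul_comp, hbM, nsmul_zero])
    let e : kernel F ≅ kernel (n • 𝟙 (D : Ind C)) :=
      { hom := kernel.lift _ (Abelian.monoLift D.arrow (kernel.ι F ≫ kernel.ι (n • 𝟙 A))
            (by rw [Category.assoc]; exact hF))
          (by
            rw [comp_nsmul_id, ← cancel_mono D.arrow, zero_comp, Preadditive.nsmul_comp,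
              Abelian.monoLift_comp, ← Preadditive.comp_nsmul, nsmul_kernel_ι, comp_zero])
        inv := kernel.lift F (kernel.lift _ (kernel.ι _ ≫ D.arrow)
            (by rw [comp_nsmul_id, ← Preadditive.nsmul_comp, nsmul_kernel_ι, zero_comp]))
          (by simp [F, hDM])
        hom_inv_id := by ext : 1; ext : 1; simp
        inv_hom_id := by ext : 1; rw [← cancel_mono D.arrow]; simp }
    exact inC_of_iso e (inC_kernel F (hA n hn)
      (inC_cokernel_nsmul hart htor M fun j => hA _ (pow_pos hM j)))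
  exact ⟨D, hdiv, hmax, hDcof, fun n hn => inC_kernel_cokernel hart htor D.arrow n
    (fun j => hDcof _ (pow_pos hn j)) (fun j => hA _ (pow_pos hn j))⟩

end composite

end Groth.Agent.IndCof45
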